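import Cfsg.Agent.H756.PU.Stmts
import Cfsg.Agent.H802.FusBasic

/-!
# S5258: the group `Q₁` and its automorphisms (helper541)

* `exists_ne_star`, `exists_theta`: elements of the field;
* the multiplication of `Q₁`, its centre;
* `CQ`: the automorphisms of `Q₁` acting trivially on `Q₁/Z`; `UQ`: those preserving the function `z = a - r* b`.
-/

set_option autoImplicit false

namespace Cfsg.Agent.H541.PU

open Cfsg Cfsg.FusionSystem Cfsg.Agent.H756.PU Cfsg.Agent.H802

universe u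

section Field

variable {K : Type u} [Field K] [StarRing K] {p n : ℕ}

theorem two_le_q (h : HypK K p n) : 2 ≤ p ^ n := by
  have h1 : p ^ 1 ≤ p ^ n := Nat.pow_le_pow_right h.pp.pos h.hn
  have := h.pp.two_le
  rw [pow_one] at h1
  omega

theorem exists_prim (h : HypK K p n) : ∃ t : K, t ≠ 0 ∧ ∀ m, 0 < m → m < (p ^ n) ^ 2 - 1 → t ^ m ≠ 1 := by
  haveI := h.fin
  haveI : Finite Kˣ := inferInstance
  obtain ⟨g, hg⟩ := IsCyclic.exists_ofOrder_eq_natCard (α := Kˣ)
  refine ⟨g, g.ne_zero, fun m hm0 hm h1 => ?_⟩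
  have h2 : g ^ m = 1 := by
    apply Units.ext
    rw [Units.val_pow_eq_pow_val, h1, Units.val_one]
  have h3 := orderOf_dvd_of_pow_eq_one h2
  rw [hg, Nat.card_units, h.card] at h3
  exact absurd (Nat.le_of_dvd hm0 h3) (by omega)

theorem exists_ne_star (h : HypK K p n) : ∃ t : K, t ≠ 0 ∧ t ≠ star t := by
  obtain ⟨t, ht0, ht⟩ := exists_prim h
  have hq := two_le_q h
  refine ⟨t, ht0, fun he => ?_⟩
  refine ht (p ^ n - 1) (by omega) ?_ ?_
  · have : p ^ n - 1 < p ^ n * p ^ n - 1 := by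
      have : p ^ n * 2 ≤ p ^ n * p ^ n := Nat.mul_le_mul_left _ hq
      omega
    rwa [← pow_two] at this
  · rw [h.star_eq] at he
    have h1 : t * t ^ (p ^ n - 1) = t * 1 := by
      rw [← pow_succ', Nat.sub_add_cancel (by omega), mul_one]
      exact he.symm
    exact mul_left_cancel₀ ht0 h1

theorem exists_theta (h : HypK K p n) : ∃ θ : K, θ + star θ = 1 := by
  obtain ⟨t, ht0, ht⟩ := exists_prim h
  have hq := two_le_q h
  have hs : t + star t ≠ 0 := by
    intro he
    refine ht (2 * (p ^ n - 1)) (by omega) ?_ ?_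
    · obtain ⟨k, hk⟩ : ∃ k, p ^ n = k + 2 := ⟨p ^ n - 2, by omega⟩
      rw [hk]
      have : (k + 2) ^ 2 = k * k + 4 * k + 4 := by ring
      rw [this]
      have : 2 * (k + 2 - 1) = 2 * k + 2 := by omega
      rw [this]
      have : 0 ≤ k * k := Nat.zero_le _
      omega
    · rw [h.star_eq] at he
      have h1 : t ^ (p ^ n - 1) = -1 := by
        have h2 : t * t ^ (p ^ n - 1) = t * (-1) := by
          rw [← pow_succ', Nat.sub_add_cancel (by omega)]
          linear_combination he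
        exact mul_left_cancel₀ ht0 h2
      rw [mul_comm, pow_mul, h1]
      ring
  refine ⟨t / (t + star t), ?_⟩
  rw [star_div₀, star_add, star_star, add_comm (star t) t, ← add_div, div_self hs]

end Field

section Group

variable {K : Type u} [Field K] [StarRing K] {p n : ℕ}

theorem Q1_conj_mem (g : UG K) {e : UG K} (he : e ∈ Q1 K) : g * e * g⁻¹ ∈ Q1 K := by
  obtain ⟨h1, h2⟩ := he
  have hc := g.hc
  refine ⟨?_, ?_⟩
  · simp [h1]
  · simp only [UG.mul_c, UG.mul_u2, UG.inv_c, UG.inv_u2, h1, h2, star_neg, star_zero]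
    linear_combination hc

instance Q1_normal : (Q1 K).Normal := ⟨fun _ he g => Q1_conj_mem g he⟩

/-- elements of `Q₁` are determined by the coordinates `r, u1, a, b` -/
theorem ext4 {e e' : Q1 K} (hr : (e : UG K).r = (e' : UG K).r) (hu : (e : UG K).u1 = (e' : UG K).u1)
    (ha : (e : UG K).a = (e' : UG K).a) (hb : (e : UG K).b = (e' : UG K).b) : e = e' := by
  apply Subtype.ext
  ext
  · exact hr
  · exact hu
  · rw [e.2.1, e'.2.1]
  · exact ha
  · exact hb
  · rw [e.2.2, e'.2.2]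

@[simp] theorem q_u2 (e : Q1 K) : (e : UG K).u2 = 0 := e.2.1
@[simp] theorem q_c (e : Q1 K) : (e : UG K).c = 0 := e.2.2

theorem q_r (e e' : Q1 K) : ((e * e' : Q1 K) : UG K).r = (e : UG K).r + (e' : UG K).r := rfl
theorem q_u1 (e e' : Q1 K) : ((e * e' : Q1 K) : UG K).u1 = (e : UG K).u1 + (e' : UG K).u1 := by
  simp
theorem q_b (e e' : Q1 K) : ((e * e' : Q1 K) : UG K).b = (e : UG K).b + (e' : UG K).b := by
  simp [UG.mul_b]
theorem q_a (e e' : Q1 K) : ((e * e' : Q1 K) : UG K).a = (e : UG K).a + (e' : UG K).a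
    - (e : UG K).r * star (e' : UG K).b + star (e : UG K).r * (e' : UG K).b
    - (e : UG K).u1 * star (e' : UG K).u1 := by
  simp only [Subgroup.coe_mul, UG.mul_a, UG.d, q_u2, q_c, star_zero]
  ring
theorem qi_r (e : Q1 K) : ((e⁻¹ : Q1 K) : UG K).r = - (e : UG K).r := rfl
theorem qi_u1 (e : Q1 K) : ((e⁻¹ : Q1 K) : UG K).u1 = - (e : UG K).u1 := by simp
theorem qi_b (e : Q1 K) : ((e⁻¹ : Q1 K) : UG K).b = - (e : UG K).b := by
  simp [UG.inv_b, UG.d]

/-- the elements of `Q₁` with given coordinates -/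
def mk1 (r u1 b a : K) (h : a + star a + u1 * star u1 = 0) : Q1 K :=
  ⟨{ r := r, u1 := u1, u2 := 0, a := a, b := b, c := 0, ha := h, hc := by simp }, rfl, rfl⟩

theorem exists_mk (h : HypK K p n) (r u1 b : K) :
    ∃ e : Q1 K, (e : UG K).r = r ∧ (e : UG K).u1 = u1 ∧ (e : UG K).b = b := by
  obtain ⟨θ, hθ⟩ := exists_theta h
  refine ⟨mk1 r u1 b (- (u1 * star u1) * θ) ?_, rfl, rfl, rfl⟩
  rw [star_mul', star_neg, star_mul', star_star]
  linear_combination (- (u1 * star u1)) * hθ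

theorem mem_center_of {z : Q1 K} (hr : (z : UG K).r = 0) (hu : (z : UG K).u1 = 0) (hb : (z : UG K).b = 0) :
    z ∈ Subgroup.center (Q1 K) := by
  rw [Subgroup.mem_center_iff]
  intro g
  apply ext4
  · rw [q_r, q_r]; ring
  · rw [q_u1, q_u1]; ring
  · rw [q_a, q_a, hr, hu, hb]; simp [add_comm]
  · rw [q_b, q_b]; ring

theorem coords_of_mem_center (h : HypK K p n) {z : Q1 K} (hz : z ∈ Subgroup.center (Q1 K)) :
    (z : UG K).r = 0 ∧ (z : UG K).u1 = 0 ∧ (z : UG K).b = 0 := by
  rw [Subgroup.mem_center_iff] at hz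
  obtain ⟨t, ht0, ht⟩ := exists_ne_star h
  have key : ∀ r u1 b : K, r * star (z : UG K).b - star r * (z : UG K).b + u1 * star (z : UG K).u1 =
      (z : UG K).r * star b - star (z : UG K).r * b + (z : UG K).u1 * star u1 := by
    intro r u1 b
    obtain ⟨e, h1, h2, h3⟩ := exists_mk h r u1 b
    have := congrArg (fun x : Q1 K => (x : UG K).a) (hz e)
    simp only [q_a, h1, h2, h3] at this
    linear_combination -this
  refine ⟨?_, ?_, ?_⟩
  · by_contra hr
    have hsr : star (z : UG K).r ≠ 0 := star_ne_zero.2 hr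
    have h1 := key 0 0 (t / star (z : UG K).r)
    simp only [zero_mul, star_zero, mul_zero, sub_zero, add_zero] at h1
    rw [star_div₀, star_star, mul_div_cancel₀ _ hr, mul_div_cancel₀ _ hsr] at h1
    exact ht (by linear_combination h1)
  · by_contra hr
    have hsr : star (z : UG K).u1 ≠ 0 := star_ne_zero.2 hr
    have h1 := key 0 (t / star (z : UG K).u1) 0
    simp only [zero_mul, star_zero, mul_zero, sub_zero, zero_add] at h1
    rw [star_div₀, star_star, div_mul_cancel₀ _ hsr, mul_div_cancel₀ _ hr] at h1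
    exact ht h1
  · by_contra hr
    have hsr : star (z : UG K).b ≠ 0 := star_ne_zero.2 hr
    have h1 := key (t / star (z : UG K).b) 0 0
    simp only [zero_mul, star_zero, mul_zero, sub_zero, add_zero] at h1
    rw [star_div₀, star_star, div_mul_cancel₀ _ hsr, div_mul_cancel₀ _ hr] at h1
    exact ht (by linear_combination h1)

variable (K) in
/-- the automorphisms of `Q₁` acting trivially on `W = Q₁/Z` -/
def CQ : Subgroup (MulAut (Q1 K)) where
  carrier := {α | ∀ e : Q1 K, ((α e : Q1 K) : UG K).r = (e : UG K).r ∧ ((α e : Q1 K) : UG K).u1 = (e : UG K).u1 ∧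
    ((α e : Q1 K) : UG K).b = (e : UG K).b}
  one_mem' := fun e => ⟨rfl, rfl, rfl⟩
  mul_mem' := by
    intro α β hα hβ e
    rw [MulAut.mul_apply]
    exact ⟨(hα _).1.trans (hβ _).1, (hα _).2.1.trans (hβ _).2.1, (hα _).2.2.trans (hβ _).2.2⟩
  inv_mem' := by
    intro α hα e
    have h1 := hα (α⁻¹ e)
    have h3 : α (α⁻¹ e) = e := α.apply_symm_apply e
    rw [h3] at h1
    exact ⟨h1.1.symm, h1.2.1.symm, h1.2.2.symm⟩

theorem mem_CQ {α : MulAut (Q1 K)} : α ∈ CQ K ↔ ∀ e : Q1 K, ((α e : Q1 K) : UG K).r = (e : UG K).r ∧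
    ((α e : Q1 K) : UG K).u1 = (e : UG K).u1 ∧ ((α e : Q1 K) : UG K).b = (e : UG K).b := Iff.rfl

/-- the function `z` -/
def zc (e : Q1 K) : K := (e : UG K).a - star (e : UG K).r * (e : UG K).b

variable (K) in
/-- the automorphisms of `Q₁` preserving `z` -/
def UQ : Subgroup (MulAut (Q1 K)) where
  carrier := {α | ∀ e : Q1 K, zc (α e) = zc e}
  one_mem' := fun e => rfl
  mul_mem' := by
    intro α β hα hβ e
    rw [MulAut.mul_apply]
    exact (hα _).trans (hβ _)
  inv_mem' := by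
    intro α hα e
    have h1 := hα (α⁻¹ e)
    have h3 : α (α⁻¹ e) = e := α.apply_symm_apply e
    rw [h3] at h1
    exact h1.symm

theorem mem_UQ {α : MulAut (Q1 K)} : α ∈ UQ K ↔ ∀ e : Q1 K, zc (α e) = zc e := Iff.rfl

theorem eq_of_CQ_UQ {α : MulAut (Q1 K)} (hC : α ∈ CQ K) (hU : α ∈ UQ K) : α = 1 := by
  apply MulEquiv.ext
  intro e
  obtain ⟨h1, h2, h3⟩ := hC e
  have h4 := hU e
  unfold zc at h4
  rw [h1, h3] at h4
  exact ext4 (e := α e) (e' := e) h1 h2 (by linear_combination h4) h3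

/-- the inner automorphisms -/
theorem conj_mem_CQ (y : Q1 K) : MulAut.conj y ∈ CQ K := by
  intro e
  rw [MulAut.conj_apply]
  refine ⟨?_, ?_, ?_⟩
  · rw [q_r, q_r, qi_r]; ring
  · rw [q_u1, q_u1, qi_u1]; ring
  · rw [q_b, q_b, qi_b]; ring

theorem inv_mul_mem_center {α : MulAut (Q1 K)} (hα : α ∈ CQ K) (e : Q1 K) : e⁻¹ * α e ∈ Subgroup.center (Q1 K) := by
  obtain ⟨h1, h2, h3⟩ := hα e
  apply mem_center_of
  · rw [q_r, qi_r, h1]; ring
  · rw [q_u1, qi_u1, h2]; ring
  · rw [q_b, qi_b, h3]; ring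

/-- the elements of `CQ` act trivially on the centre -/
theorem CQ_center (h : HypK K p n) {α : MulAut (Q1 K)} (hα : α ∈ CQ K) {z : Q1 K}
    (hz : z ∈ Subgroup.center (Q1 K)) : α z = z := by
  obtain ⟨h1, h2, h3⟩ := coords_of_mem_center h hz
  obtain ⟨θ, hθ⟩ := exists_theta h
  have ha := (z : UG K).ha
  rw [h2, star_zero, mul_zero, add_zero] at ha
  -- z is a commutator
  set e : Q1 K := mk1 1 0 0 0 (by simp) with he
  set f : Q1 K := mk1 0 0 ((z : UG K).a * θ) 0 (by simp) with hf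
  have hzc : e * f = z * (f * e) := by
    apply ext4
    · simp only [q_r, h1]; rw [he, hf]; simp [mk1]
    · simp only [q_u1, h2]; rw [he, hf]; simp [mk1]
    · simp only [q_a, q_r, q_u1, q_b, h1, h2, h3]; rw [he, hf]; simp [mk1]
      linear_combination (z : UG K).a * hθ - star θ * ha
    · simp only [q_b, h3]; rw [he, hf]; simp [mk1]
  have hc : ∀ x y : Q1 K, α x * α y * (x * y)⁻¹ = (x⁻¹ * α x) * (y⁻¹ * α y) := by
    intro x y
    have c1 := Subgroup.mem_center_iff.1 (inv_mul_mem_center hα x)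
    have c2 := Subgroup.mem_center_iff.1 (inv_mul_mem_center hα y)
    have e1 : α x = x * (x⁻¹ * α x) := by group
    have e2 : α y = y * (y⁻¹ * α y) := by group
    generalize x⁻¹ * α x = s at *
    generalize y⁻¹ * α y = t at *
    rw [e1, e2, mul_inv_rev]
    calc x * s * (y * t) * (y⁻¹ * x⁻¹) = x * s * (y * t * y⁻¹) * x⁻¹ := by group
      _ = x * s * t * x⁻¹ := by rw [c2 y]; group
      _ = x * (s * t) * x⁻¹ := by group
      _ = s * t := by
        rw [← mul_assoc x, c1 x, mul_assoc s x t, c2 x]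
        group
  have hα2 : α e * α f = α z * (α f * α e) := by
    rw [← map_mul, ← map_mul, ← map_mul, hzc]
  have k1 := hc e f
  have k2 := hc f e
  have c1 := Subgroup.mem_center_iff.1 (inv_mul_mem_center hα f) (e⁻¹ * α e)
  have k3 : α e * α f * (e * f)⁻¹ = α f * α e * (f * e)⁻¹ := by rw [k1, k2, c1]
  rw [hα2, hzc, mul_inv_rev] at k3
  have k4 : α z * (α f * α e * (f * e)⁻¹) * z⁻¹ = α f * α e * (f * e)⁻¹ := by
    refine Eq.trans ?_ k3
    group
  have c3 : (α f * α e * (f * e)⁻¹) ∈ Subgroup.center (Q1 K) := by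
    rw [k2]
    exact (Subgroup.center (Q1 K)).mul_mem (inv_mul_mem_center hα f) (inv_mul_mem_center hα e)
  have c4 := Subgroup.mem_center_iff.1 c3 (α z)
  rw [c4] at k4
  have k5 : α z * z⁻¹ = 1 := by
    apply mul_left_cancel (a := α f * α e * (f * e)⁻¹)
    rw [← mul_assoc, k4, mul_one]
  exact mul_inv_eq_one.1 k5

end Group

end Cfsg.Agent.H541.PU
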