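import Cfsg.Agent.H541.PU.Basic

/-!
# S5258: `StL1` from `StL1a` and `StLift` (helper541)
-/

set_option autoImplicit false

namespace Cfsg.Agent.H541.PU

open Cfsg Cfsg.FusionSystem Cfsg.Agent.H756.PU Cfsg.Agent.H802

universe u

/-! ### generalities -/
section Gen

variable {G : Type*} [Group G]

theorem not_dvd_of_syl [Finite G] {p : ℕ} [Fact p.Prime] {P Γ L : Subgroup G} (hP : IsPGroup p P)
    (hs : ∀ Q : Subgroup G, Q ≤ Γ → IsPGroup p Q → ∃ g ∈ Γ, ∀ x ∈ Q, g * x * g⁻¹ ∈ P) (hPL : P ≤ L)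
    (hL : L ≤ Γ) : ¬ p ∣ P.relIndex L := by
  have h1 : IsPGroup p (P.subgroupOf L) := hP.comap_of_injective L.subtype L.subtype_injective
  obtain ⟨Q, hQ⟩ := h1.exists_le_sylow
  obtain ⟨g, -, hg⟩ := hs ((Q : Subgroup L).map L.subtype) ((Subgroup.map_subtype_le _).trans hL)
    (Q.isPGroup'.map _)
  have h2 : Nat.card (Q : Subgroup L) ≤ Nat.card P := by
    have h3 : Nat.card (Q : Subgroup L) = Nat.card ((Q : Subgroup L).map L.subtype) :=
      (Nat.card_congr ((Q : Subgroup L).equivMapOfInjective _ L.subtype_injective).toEquiv)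
    rw [h3]
    refine Nat.card_le_card_of_injective (fun x => (⟨g * x * g⁻¹, hg x x.2⟩ : P)) ?_
    intro x y hxy
    have := congrArg Subtype.val hxy
    exact Subtype.ext (mul_left_cancel (mul_right_cancel this))
  have h4 : Nat.card P = Nat.card (P.subgroupOf L) :=
    (Nat.card_congr (Subgroup.subgroupOfEquivOfLe hPL).toEquiv).symm
  have h5 : P.subgroupOf L = (Q : Subgroup L) := Subgroup.eq_of_le_of_card_ge hQ (by rw [← h4]; exact h2)
  rw [Subgroup.relIndex, h5]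
  exact Q.not_dvd_index

theorem le_normalizer_of_conj {H L : Subgroup G} (h : ∀ x ∈ H, ∀ y ∈ L, x * y * x⁻¹ ∈ L) :
    H ≤ Subgroup.normalizer (L : Set G) := by
  intro x hx
  rw [Subgroup.mem_normalizer_iff]
  intro y
  refine ⟨fun hy => h x hx y hy, fun hy => ?_⟩
  have h1 := h x⁻¹ (H.inv_mem hx) _ hy
  have h2 : x⁻¹ * (x * y * x⁻¹) * x⁻¹⁻¹ = y := by group
  rwa [h2] at h1

theorem mem_sup_iff_map {L C : Subgroup G} [C.Normal] {x : G} :
    x ∈ L ⊔ C ↔ QuotientGroup.mk' C x ∈ L.map (QuotientGroup.mk' C) := by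
  rw [← Subgroup.mem_comap, Subgroup.comap_map_eq, QuotientGroup.ker_mk']

end Gen

variable {K : Type u} [Field K] [StarRing K] {p n : ℕ}

/-! ### the group `CQ` -/

theorem map_center {α : MulAut (Q1 K)} {z : Q1 K} (hz : z ∈ Subgroup.center (Q1 K)) :
    α z ∈ Subgroup.center (Q1 K) := by
  rw [Subgroup.mem_center_iff] at hz ⊢
  intro g
  have := congrArg α (hz (α.symm g))
  rwa [map_mul, map_mul, MulEquiv.apply_symm_apply] at this

theorem CQ_normal (h : HypK K p n) : (CQ K).Normal := by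
  refine ⟨fun c hc γ e => ?_⟩
  rw [MulAut.mul_apply, MulAut.mul_apply]
  set f := γ⁻¹ e with hf
  have h1 : γ f = e := γ.apply_symm_apply e
  have h2 : c f = f * (f⁻¹ * c f) := by group
  obtain ⟨k1, k2, k3⟩ := coords_of_mem_center h (map_center (α := γ) (inv_mul_mem_center hc f))
  rw [h2, map_mul, h1, q_r, q_u1, q_b, k1, k2, k3]
  simp

theorem CQ_comm (h : HypK K p n) {α β : MulAut (Q1 K)} (hα : α ∈ CQ K) (hβ : β ∈ CQ K) : α * β = β * α := by
  apply MulEquiv.ext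
  intro e
  rw [MulAut.mul_apply, MulAut.mul_apply]
  have hα' := inv_mul_mem_center hα e
  have hβ' := inv_mul_mem_center hβ e
  have h1 : α e = e * (e⁻¹ * α e) := by group
  have h2 : β e = e * (e⁻¹ * β e) := by group
  generalize e⁻¹ * α e = s at *
  generalize e⁻¹ * β e = t at *
  rw [h2, map_mul, CQ_center h hα hβ', h1, map_mul, CQ_center h hβ hα', h2, mul_assoc, mul_assoc,
    Subgroup.mem_center_iff.1 hβ' s]

theorem CQ_pow (h : HypK K p n) {α : MulAut (Q1 K)} (hα : α ∈ CQ K) (e : Q1 K) (k : ℕ) :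
    (α ^ k) e = e * (e⁻¹ * α e) ^ k := by
  induction k with
  | zero => simp
  | succ k ih =>
    rw [pow_succ', MulAut.mul_apply, ih, map_mul, map_pow, CQ_center h hα (inv_mul_mem_center hα e), pow_succ',
      ← mul_assoc, mul_inv_cancel_left]

theorem CQ_pgroup (hG : StGrp.{u}) (h : HypK K p n) : IsPGroup p (CQ K) := by
  rintro ⟨α, hα⟩
  refine ⟨n * 10, ?_⟩
  apply Subtype.ext
  change α ^ (p ^ (n * 10)) = 1
  apply MulEquiv.ext
  intro e
  rw [CQ_pow h hα]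
  have h1 : (e⁻¹ * α e) ^ (p ^ (n * 10)) = 1 := by
    apply Subtype.ext
    rw [Subgroup.coe_pow, pow_mul, ← (hG h).1]
    exact pow_card_eq_one'
  rw [h1, mul_one]
  rfl

/-! ### inner automorphisms -/

variable (K) in
/-- the inner automorphisms -/
abbrev IQ : Subgroup (MulAut (Q1 K)) := (MulAut.conj : Q1 K →* MulAut (Q1 K)).range

theorem conj_conj (γ : MulAut (Q1 K)) (y : Q1 K) : γ * MulAut.conj y * γ⁻¹ = MulAut.conj (γ y) := by
  apply MulEquiv.ext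
  intro e
  rw [MulAut.mul_apply, MulAut.mul_apply, MulAut.conj_apply, MulAut.conj_apply, map_mul, map_mul, map_inv]
  congr 2
  exact γ.apply_symm_apply e

instance IQ_normal : (IQ K).Normal := by
  refine ⟨?_⟩
  rintro _ ⟨y, rfl⟩ γ
  exact ⟨γ y, (conj_conj γ y).symm⟩

theorem IQ_le_CQ : IQ K ≤ CQ K := by
  rintro _ ⟨y, rfl⟩
  exact conj_mem_CQ y

/-- conjugation by an element of the whole group -/
noncomputable abbrev cj (s : UG K) : MulAut (Q1 K) := MulAut.conjNormal s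

theorem cj_apply (s : UG K) (e : Q1 K) : ((cj s e : Q1 K) : UG K) = s * e * s⁻¹ := rfl

theorem mem_P_iff {α : MulAut (Q1 K)} : α ∈ autInducedBy ⊤ (Q1 K) ↔ ∃ s, α = cj s := by
  rw [mem_autInducedBy_iff]
  constructor
  · rintro ⟨g, -, hg⟩
    exact ⟨g, MulEquiv.ext fun e => Subtype.ext (hg e)⟩
  · rintro ⟨s, rfl⟩
    exact ⟨s, Subgroup.mem_top _, fun e => rfl⟩

theorem cj_mem (s : UG K) : cj s ∈ autInducedBy ⊤ (Q1 K) := mem_P_iff.2 ⟨s, rfl⟩

theorem cj_coe (y : Q1 K) : cj (y : UG K) = MulAut.conj y := MulEquiv.ext fun _ => Subtype.ext rfl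

theorem IQ_le_P : IQ K ≤ autInducedBy ⊤ (Q1 K) := by
  rintro _ ⟨y, rfl⟩
  rw [← cj_coe]
  exact cj_mem _

theorem P_le_Lam : autInducedBy ⊤ (Q1 K) ≤ Lam1 K := le_sup_left

/-- the complement of `Q₁` -/
def s0 (s c : K) (h : c + star c + s * star s = 0) : UG K :=
  { r := 0, u1 := 0, u2 := s, a := 0, b := 0, c := c, ha := by simp, hc := h }

theorem cj_s0 {s c : K} (h : c + star c + s * star s = 0) (e : Q1 K) :
    ((cj (s0 s c h) e : Q1 K) : UG K).r = (e : UG K).r ∧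
    ((cj (s0 s c h) e : Q1 K) : UG K).u1 = (e : UG K).u1 - (e : UG K).r * s ∧
    ((cj (s0 s c h) e : Q1 K) : UG K).b = (e : UG K).b + (e : UG K).r * star c + (e : UG K).u1 * star s ∧
    zc (cj (s0 s c h) e) = zc e := by
  have h1 := q_u2 e
  have h2 := q_c e
  refine ⟨?_, ?_, ?_, ?_⟩
  · rw [cj_apply]; simp [s0]
  · rw [cj_apply]; simp [s0]; ring
  · rw [cj_apply]; simp [s0, UG.mul_b, UG.inv_b, UG.d]
  · unfold zc
    rw [cj_apply]
    simp [s0, UG.mul_a, UG.mul_b, UG.inv_a, UG.inv_b, UG.d]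
    ring

theorem cj_mem_sup (s : UG K) : cj s ∈ IQ K ⊔ UQ K := by
  have hmem : s * (s0 s.u2 s.c s.hc)⁻¹ ∈ Q1 K := by
    refine ⟨?_, ?_⟩
    · simp [s0]
    · have hc := s.hc
      simp only [UG.mul_c, UG.inv_c, UG.inv_u2, s0, star_neg]
      linear_combination hc
  have h1 : s = ((⟨_, hmem⟩ : Q1 K) : UG K) * s0 s.u2 s.c s.hc := by simp
  have h2 : cj s = MulAut.conj (⟨_, hmem⟩ : Q1 K) * cj (s0 s.u2 s.c s.hc) := by
    rw [← cj_coe, ← map_mul, ← h1]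
  rw [h2]
  refine Subgroup.mul_mem_sup ⟨_, rfl⟩ ?_
  intro e
  exact (cj_s0 s.hc e).2.2.2

theorem w1_mem_UQ {κ : K} {w : MulAut (Q1 K)} (hw : IsW1 κ w) : w ∈ UQ K := by
  intro e
  unfold zc
  rw [hw.r, hw.a, hw.b, star_mul', star_neg, star_inv₀]
  have h1 : star κ = -κ := by linear_combination hw.tr
  have h0 := hw.ne
  rw [h1]
  field_simp
  ring

theorem Lam_le : Lam1 K ≤ IQ K ⊔ UQ K := by
  refine sup_le ?_ ?_
  · intro α hα
    obtain ⟨s, rfl⟩ := mem_P_iff.1 hα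
    exact cj_mem_sup s
  · rw [Subgroup.closure_le]
    rintro w ⟨κ, hw⟩
    exact Subgroup.mem_sup_right (w1_mem_UQ hw)

theorem Lam_inf_le : Lam1 K ⊓ CQ K ≤ IQ K := by
  rintro α ⟨h1, h2⟩
  have h3 := Lam_le h1
  rw [Subgroup.mem_sup_of_normal_left] at h3
  obtain ⟨i, hi, v, hv, rfl⟩ := h3
  have h4 : v ∈ CQ K := by
    have := (CQ K).mul_mem ((CQ K).inv_mem (IQ_le_CQ hi)) h2
    rwa [inv_mul_cancel_left] at this
  rw [eq_of_CQ_UQ h4 hv, mul_one]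
  exact hi

/-! ### the Weyl element -/

theorem eq_of_coords {α β : MulAut (Q1 K)} (hα : α ∈ UQ K) (hβ : β ∈ UQ K)
    (h : ∀ e : Q1 K, ((α e : Q1 K) : UG K).r = ((β e : Q1 K) : UG K).r ∧
      ((α e : Q1 K) : UG K).u1 = ((β e : Q1 K) : UG K).u1 ∧ ((α e : Q1 K) : UG K).b = ((β e : Q1 K) : UG K).b) :
    α = β := by
  apply MulEquiv.ext
  intro e
  obtain ⟨h1, h2, h3⟩ := h e
  have h4 := (hα e).trans (hβ e).symm
  unfold zc at h4
  rw [h1, h3] at h4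
  exact ext4 h1 h2 (by linear_combination h4) h3

theorem w1_inv {κ : K} {w : MulAut (Q1 K)} (hw : IsW1 κ w) (e : Q1 K) :
    ((w⁻¹ e : Q1 K) : UG K).r = κ⁻¹ * (e : UG K).b ∧ ((w⁻¹ e : Q1 K) : UG K).u1 = (e : UG K).u1 ∧
    ((w⁻¹ e : Q1 K) : UG K).b = -κ * (e : UG K).r := by
  have h3 : w (w⁻¹ e) = e := w.apply_symm_apply e
  set f := w⁻¹ e
  have h1 := hw.r f
  have h2 := hw.u1 f
  have h4 := hw.b f
  rw [h3] at h1 h2 h4
  have h0 := hw.ne
  refine ⟨?_, h2.symm, ?_⟩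
  · rw [h4, inv_mul_cancel_left₀ h0]
  · rw [h1]
    field_simp

theorem w1_eq {κ : K} {w : MulAut (Q1 K)} (hw : IsW1 κ w) :
    ∃ x ∈ autInducedBy ⊤ (Q1 K), w = x * (w⁻¹ * x * w) * x := by
  have h0 := hw.ne
  have hc : star κ + star (star κ) + (0 : K) * star (0 : K) = 0 := by
    rw [star_star]
    linear_combination hw.tr
  set x := cj (s0 (0 : K) (star κ) hc) with hx
  have hxU : x ∈ UQ K := fun e => (cj_s0 _ e).2.2.2
  have hwU := w1_mem_UQ hw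
  have hxc : ∀ e : Q1 K, ((x e : Q1 K) : UG K).r = (e : UG K).r ∧ ((x e : Q1 K) : UG K).u1 = (e : UG K).u1 ∧
      ((x e : Q1 K) : UG K).b = (e : UG K).b + (e : UG K).r * κ := by
    intro e
    obtain ⟨k1, k2, k3, -⟩ := cj_s0 hc e
    refine ⟨k1, ?_, ?_⟩
    · rw [k2]; ring
    · rw [k3, star_star, star_zero]; ring
  refine ⟨x, cj_mem _, eq_of_coords hwU ?_ ?_⟩
  · exact (UQ K).mul_mem ((UQ K).mul_mem hxU ((UQ K).mul_mem ((UQ K).mul_mem ((UQ K).inv_mem hwU) hxU) hwU)) hxU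
  intro e
  simp only [MulAut.mul_apply]
  obtain ⟨a1, a2, a3⟩ := hxc (w⁻¹ (x (w (x e))))
  obtain ⟨b1, b2, b3⟩ := w1_inv hw (x (w (x e)))
  obtain ⟨c1, c2, c3⟩ := hxc (w (x e))
  obtain ⟨d1, d2, d3⟩ := hxc e
  rw [a1, a2, a3, b1, b2, b3, c1, c2, c3, hw.r, hw.u1, hw.b, hw.r, hw.u1, hw.b, d1, d2, d3]
  refine ⟨?_, rfl, ?_⟩
  · field_simp
    ring
  · field_simp
    ring

/-! ### the torus -/

theorem tor_conj_P {d : MulAut (UG K)} {δ : MulAut (Q1 K)} (hd : IsR d δ) {α : MulAut (Q1 K)}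
    (hα : α ∈ autInducedBy ⊤ (Q1 K)) : δ * α * δ⁻¹ ∈ autInducedBy ⊤ (Q1 K) := by
  obtain ⟨s, rfl⟩ := mem_P_iff.1 hα
  refine mem_P_iff.2 ⟨d s, ?_⟩
  apply MulEquiv.ext
  intro e
  apply Subtype.ext
  rw [MulAut.mul_apply, MulAut.mul_apply, hd, cj_apply, cj_apply, map_mul, map_mul, map_inv, ← hd]
  congr 2
  exact congrArg _ (δ.apply_symm_apply e)

theorem tor_conj_W {d : MulAut (UG K)} {x1 x2 : K} {τ : K ≃+* K} (ht : IsTor d x1 x2 τ) {δ : MulAut (Q1 K)}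
    (hd : IsR d δ) {κ : K} {w : MulAut (Q1 K)} (hw : IsW1 κ w) :
    IsW1 (x2 * star x2 * τ κ) (δ * w * δ⁻¹) := by
  have h1 := ht.ne1
  have h2 := ht.ne2
  have h2' : star x2 ≠ 0 := star_ne_zero.2 h2
  have h1' : star x1 ≠ 0 := star_ne_zero.2 h1
  have h0 := hw.ne
  have hτ0 : τ κ ≠ 0 := by simpa using h0
  have hinv : ∀ e : Q1 K, δ (δ⁻¹ e) = e := fun e => δ.apply_symm_apply e
  have key : ∀ P : Q1 K → Prop, (∀ f : Q1 K, P (δ f)) → ∀ e, P e := by
    intro P h e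
    rw [← hinv e]
    exact h _
  have hδ : ∀ f : Q1 K, (δ * w * δ⁻¹) (δ f) = δ (w f) := by
    intro f
    rw [MulAut.mul_apply, MulAut.mul_apply]
    congr 2
    exact δ.symm_apply_apply f
  refine ⟨?_, ?_, key _ fun f => ?_, key _ fun f => ?_, key _ fun f => ?_, key _ fun f => ?_⟩
  · exact mul_ne_zero (mul_ne_zero h2 h2') hτ0
  · rw [star_mul', star_mul', star_star, ← ht.tst]
    have := congrArg τ hw.tr
    rw [map_add, map_zero] at this
    linear_combination x2 * star x2 * this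
  · rw [hδ, hd, hd, ht.r, ht.b, hw.r, map_mul, map_neg, map_inv₀]
    field_simp
  · rw [hδ, hd, hd, ht.u1, ht.u1, hw.u1]
  · rw [hδ, hd, hd, ht.a, ht.a, ht.r, ht.b, hw.a]
    simp only [map_add, map_sub, map_mul, ht.tst, star_mul', star_inv₀, star_star]
    field_simp
  · rw [hδ, hd, hd, ht.r, ht.b, hw.b, map_mul]
    field_simp

theorem tor_conj_Lam {d : MulAut (UG K)} {x1 x2 : K} {τ : K ≃+* K} (ht : IsTor d x1 x2 τ) {δ : MulAut (Q1 K)}
    (hd : IsR d δ) {l : MulAut (Q1 K)} (hl : l ∈ Lam1 K) : δ * l * δ⁻¹ ∈ Lam1 K := by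
  have h : Lam1 K ≤ (Lam1 K).comap (MulAut.conj δ).toMonoidHom := by
    refine sup_le ?_ ?_
    · intro α hα
      exact P_le_Lam (tor_conj_P hd hα)
    · rw [Subgroup.closure_le]
      rintro w ⟨κ, hw⟩
      exact Subgroup.mem_sup_right (Subgroup.subset_closure ⟨_, tor_conj_W ht hd hw⟩)
  exact h hl

/-! ### restrictions -/

/-- the restrictions of the elements of `D` to `Q₁` -/
def RD (D : Subgroup (MulAut (UG K))) : Subgroup (MulAut (Q1 K)) where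
  carrier := {δ | ∃ d ∈ D, IsR d δ}
  one_mem' := ⟨1, D.one_mem, fun e => rfl⟩
  mul_mem' := by
    rintro a b ⟨d, hd, h⟩ ⟨d', hd', h'⟩
    exact ⟨d * d', D.mul_mem hd hd', fun e => by rw [MulAut.mul_apply, MulAut.mul_apply, h, h']⟩
  inv_mem' := by
    rintro a ⟨d, hd, h⟩
    refine ⟨d⁻¹, D.inv_mem hd, fun e => ?_⟩
    have h1 := h (a⁻¹ e)
    have h3 : a (a⁻¹ e) = e := a.apply_symm_apply e
    rw [h3] at h1
    rw [h1]
    exact (d.symm_apply_apply _).symm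

theorem IsR_pow {d : MulAut (UG K)} {δ : MulAut (Q1 K)} (h : IsR d δ) (k : ℕ) : IsR (d ^ k) (δ ^ k) := by
  induction k with
  | zero => exact fun e => rfl
  | succ k ih =>
    intro e
    rw [pow_succ', pow_succ', MulAut.mul_apply, MulAut.mul_apply, h, ih]

theorem RD_coprime [Finite (UG K)] {D : Subgroup (MulAut (UG K))} (hp : p.Prime) (hD : (Nat.card D).Coprime p) :
    (Nat.card (RD D)).Coprime p := by
  haveI : Fact p.Prime := ⟨hp⟩
  rw [Nat.coprime_comm, Nat.Prime.coprime_iff_not_dvd hp] at hD ⊢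
  intro hdvd
  haveI : Finite (MulAut (Q1 K)) := inferInstance
  obtain ⟨⟨δ, d, hd, h⟩, hx⟩ := exists_prime_orderOf_dvd_card' p hdvd
  apply hD
  rw [← hx]
  apply orderOf_dvd_of_pow_eq_one
  apply Subtype.ext
  change δ ^ (Nat.card D) = 1
  have h1 : d ^ (Nat.card D) = 1 := by
    have : (⟨d, hd⟩ : D) ^ (Nat.card D) = 1 := pow_card_eq_one'
    exact congrArg Subtype.val this
  apply MulEquiv.ext
  intro e
  apply Subtype.ext
  rw [IsR_pow h, h1]
  rfl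

theorem exists_restr {α : MulAut (UG K)} {x1 x2 : K} {τ : K ≃+* K} (ht : IsTor α x1 x2 τ) :
    ∃ δ : MulAut (Q1 K), IsR α δ := by
  have h2' : star x2 ≠ 0 := star_ne_zero.2 ht.ne2
  have h1 : ∀ e ∈ Q1 K, α e ∈ Q1 K := by
    rintro e ⟨k1, k2⟩
    exact ⟨by rw [ht.u2, k1]; simp, by rw [ht.c, k2]; simp⟩
  have h2 : ∀ e ∈ Q1 K, α.symm e ∈ Q1 K := by
    rintro e ⟨k1, k2⟩
    have e1 := ht.u2 (α.symm e)
    have e2 := ht.c (α.symm e)
    rw [MulEquiv.apply_symm_apply] at e1 e2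
    rw [k1] at e1
    rw [k2] at e2
    refine ⟨?_, ?_⟩
    · have := (mul_eq_zero.1 e1.symm).resolve_left ht.ne2
      simpa using this
    · have := (mul_eq_zero.1 e2.symm).resolve_left (mul_ne_zero ht.ne2 h2')
      simpa using this
  refine ⟨{ toFun := fun e => ⟨α e, h1 e e.2⟩
            invFun := fun e => ⟨α.symm e, h2 e e.2⟩
            left_inv := fun e => Subtype.ext (by simp)
            right_inv := fun e => Subtype.ext (by simp)
            map_mul' := fun x y => Subtype.ext (by simp) }, fun e => rfl⟩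

theorem fix_trivial (hG : StGrp.{u}) (h : HypK K p n) {D : Subgroup (MulAut (UG K))}
    (hT : HasTor D (fun t => t * (star t)⁻¹) (fun t => t ^ 2 * (star t)⁻¹)) {c : MulAut (Q1 K)} (hc : c ∈ CQ K)
    (hcomm : ∀ δ ∈ RD D, δ * c = c * δ) : c = 1 := by
  obtain ⟨t, ht0, hts⟩ := exists_ne_star h
  have hs0 : star t ≠ 0 := star_ne_zero.2 ht0
  obtain ⟨α, hα⟩ := (hG h).2.2.1 (t * (star t)⁻¹) (t ^ 2 * (star t)⁻¹) (RingEquiv.refl K)
    (mul_ne_zero ht0 (inv_ne_zero hs0)) (mul_ne_zero (pow_ne_zero _ ht0) (inv_ne_zero hs0))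
  have hαD := hT t ht0 α hα
  obtain ⟨δ, hδ⟩ := exists_restr hα
  have hδc := hcomm δ ⟨α, hαD, hδ⟩
  have ht1 : t - 1 ≠ 0 := by
    intro h1
    apply hts
    rw [sub_eq_zero.1 h1, star_one]
  have hs1 : star t - 1 ≠ 0 := by
    intro h1
    apply ht1
    have h2 : star (star t) = 1 := by rw [sub_eq_zero.1 h1, star_one]
    rw [star_star] at h2
    rw [h2, sub_self]
  have hd1 : t - star t ≠ 0 := sub_ne_zero.2 hts
  -- `δ` is trivial on the centre
  have hδz : ∀ z ∈ Subgroup.center (Q1 K), δ z = z := by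
    intro z hz
    obtain ⟨k1, k2, k3⟩ := coords_of_mem_center h hz
    apply ext4
    · rw [hδ, hα.r, k1]; simp
    · rw [hδ, hα.u1, k2]; simp
    · rw [hδ, hα.a]
      simp only [star_mul', star_inv₀, star_star, RingEquiv.refl_apply]
      field_simp
    · rw [hδ, hα.b, k3]; simp
  have hg : ∀ e : Q1 K, c (δ e * e⁻¹) = δ e * e⁻¹ := by
    intro e
    have h1 : c (δ e) = δ (c e) := by
      rw [← MulAut.mul_apply, ← MulAut.mul_apply, hδc]
    have h2 : c e = e * (e⁻¹ * c e) := by group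
    rw [map_mul, map_inv, h1, h2, map_mul, hδz _ (inv_mul_mem_center hc e)]
    group
  apply MulEquiv.ext
  intro f
  change c f = f
  obtain ⟨e, he1, he2, he3⟩ := exists_mk h ((f : UG K).r * (t / (1 - t))) ((f : UG K).u1 * (star t / (t - star t)))
    ((f : UG K).b / (star t - 1))
  have ht1' : 1 - t ≠ 0 := by
    intro h1
    apply ht1
    linear_combination -h1
  have hz : (δ e * e⁻¹)⁻¹ * f ∈ Subgroup.center (Q1 K) := by
    apply mem_center_of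
    · rw [q_r, qi_r, q_r, qi_r, hδ, hα.r, he1]
      simp only [RingEquiv.refl_apply]
      field_simp
      ring
    · rw [q_u1, qi_u1, q_u1, qi_u1, hδ, hα.u1, he2]
      simp only [RingEquiv.refl_apply]
      field_simp
      ring
    · rw [q_b, qi_b, q_b, qi_b, hδ, hα.b, he3]
      simp only [RingEquiv.refl_apply, star_mul', star_pow, star_inv₀, star_star]
      field_simp
      ring
  have h1 : f = (δ e * e⁻¹) * ((δ e * e⁻¹)⁻¹ * f) := by group
  rw [h1, map_mul, hg, CQ_center h hc hz]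

/-! ### the theorem -/

/-- **(L1)** -/
theorem stL1 (hG : StGrp.{u}) (hLift : StLift.{u}) (h1a : StL1a.{u}) : StL1.{u} := by
  intro K _ _ p n h Γ D hPar hT
  obtain ⟨hTor, hA1, hA2⟩ := h1a h Γ D hPar hT
  refine ⟨hTor, ?_⟩
  haveI : Fact p.Prime := ⟨h.pp⟩
  haveI hCN := CQ_normal h
  haveI : Finite (UG K) := by
    apply Nat.finite_of_card_ne_zero
    rw [(hG h).1]
    exact pow_ne_zero _ (pow_ne_zero _ h.pp.ne_zero)
  haveI : Finite (MulAut (Q1 K)) := inferInstance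
  set P : Subgroup (MulAut (Q1 K)) := autInducedBy ⊤ (Q1 K) with hP
  have hPp : IsPGroup p P := isPGroup_autInducedBy (hG h).2.1 _
  set L : Subgroup (MulAut (Q1 K)) := Subgroup.closure {x | ∃ γ ∈ Γ, ∃ y ∈ P, x = γ * y * γ⁻¹} with hL
  have agree : ∀ γ l : MulAut (Q1 K), (∀ e : Q1 K, ((γ e : Q1 K) : UG K).r = ((l e : Q1 K) : UG K).r ∧
      ((γ e : Q1 K) : UG K).u1 = ((l e : Q1 K) : UG K).u1 ∧ ((γ e : Q1 K) : UG K).b = ((l e : Q1 K) : UG K).b) →
      γ * l⁻¹ ∈ CQ K := by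
    intro γ l hh e
    rw [MulAut.mul_apply]
    have h1 := hh (l⁻¹ e)
    have h3 : l (l⁻¹ e) = e := l.apply_symm_apply e
    rwa [h3] at h1
  have hPL : P ≤ L := fun y hy => Subgroup.subset_closure ⟨1, Γ.one_mem, y, hy, by simp⟩
  have hLΓ : L ≤ Γ := by
    rw [hL, Subgroup.closure_le]
    rintro _ ⟨γ, hγ, y, hy, rfl⟩
    exact Γ.mul_mem (Γ.mul_mem hγ (hPar.indu hy)) (Γ.inv_mem hγ)
  have hRΓ : RD D ≤ Γ := by
    rintro δ ⟨d, hd, hh⟩
    exact hPar.D_res d hd δ hh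
  have hRLam : ∀ δ ∈ RD D, ∀ l ∈ Lam1 K, δ * l * δ⁻¹ ∈ Lam1 K := by
    rintro δ ⟨d, hd, hh⟩ l hl
    obtain ⟨x1, x2, τ, ht⟩ := (hG h).2.2.2.1 d (hPar.D_le hd)
    exact tor_conj_Lam ht hh hl
  have hLΓN : ∀ γ ∈ Γ, ∀ x ∈ L, γ * x * γ⁻¹ ∈ L := by
    intro γ hγ
    have : L ≤ L.comap (MulAut.conj γ).toMonoidHom := by
      rw [hL, Subgroup.closure_le]
      rintro _ ⟨γ', hγ', y, hy, rfl⟩
      refine Subgroup.subset_closure ⟨γ * γ', Γ.mul_mem hγ hγ', y, hy, ?_⟩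
      simp only [MulEquiv.toMonoidHom_eq_coe, MonoidHom.coe_coe, MulAut.conj_apply]
      group
    exact fun x hx => this hx
  -- elements of `Γ`
  have hdec : ∀ γ ∈ Γ, ∃ l ∈ Lam1 K, ∃ δ ∈ RD D, ∃ c ∈ CQ K, γ = c * (l * δ) := by
    intro γ hγ
    obtain ⟨l, hl, d, hd, δ, hδ, hh⟩ := hA2 γ hγ
    exact ⟨l, hl, δ, ⟨d, hd, hδ⟩, γ * (l * δ)⁻¹, agree _ _ hh, by group⟩
  have hN : ∀ γ ∈ Γ, ∀ x ∈ Lam1 K ⊔ CQ K, γ * x * γ⁻¹ ∈ Lam1 K ⊔ CQ K := by
    intro γ hγ x hx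
    obtain ⟨l, hl, δ, hδ, c, hc, rfl⟩ := hdec γ hγ
    have h1 : δ * x * δ⁻¹ ∈ Lam1 K ⊔ CQ K := by
      have : Lam1 K ⊔ CQ K ≤ (Lam1 K ⊔ CQ K).comap (MulAut.conj δ).toMonoidHom := by
        refine sup_le ?_ ?_
        · intro y hy
          exact Subgroup.mem_sup_left (hRLam δ hδ y hy)
        · intro y hy
          exact Subgroup.mem_sup_right (hCN.conj_mem y hy δ)
      exact this hx
    have hl' : l ∈ Lam1 K ⊔ CQ K := Subgroup.mem_sup_left hl
    have hc' : c ∈ Lam1 K ⊔ CQ K := Subgroup.mem_sup_right hc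
    have h2 := (Lam1 K ⊔ CQ K).mul_mem ((Lam1 K ⊔ CQ K).mul_mem ((Lam1 K ⊔ CQ K).mul_mem hc' hl') h1)
      ((Lam1 K ⊔ CQ K).inv_mem ((Lam1 K ⊔ CQ K).mul_mem hc' hl'))
    have h3 : c * (l * δ) * x * (c * (l * δ))⁻¹ = c * l * (δ * x * δ⁻¹) * (c * l)⁻¹ := by group
    rw [h3]
    exact h2
  have hsup : L ⊔ CQ K = Lam1 K ⊔ CQ K := by
    apply le_antisymm
    · refine sup_le ?_ le_sup_right
      rw [hL, Subgroup.closure_le]
      rintro _ ⟨γ, hγ, y, hy, rfl⟩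
      exact hN γ hγ y (Subgroup.mem_sup_left (P_le_Lam hy))
    · refine sup_le ?_ le_sup_right
      refine sup_le (hPL.trans le_sup_left) ?_
      rw [Subgroup.closure_le]
      rintro w ⟨κ, hw⟩
      obtain ⟨x, hx, hwx⟩ := w1_eq hw
      obtain ⟨γ, hγ, hh⟩ := hA1 w (Subgroup.mem_sup_right (Subgroup.subset_closure ⟨κ, hw⟩))
      have hγw := agree γ w hh
      have hq : QuotientGroup.mk' (CQ K) γ = QuotientGroup.mk' (CQ K) w := by
        have h1 : QuotientGroup.mk' (CQ K) (γ * w⁻¹) = 1 := (QuotientGroup.eq_one_iff _).2 hγw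
        rw [map_mul, map_inv] at h1
        exact mul_inv_eq_one.1 h1
      change w ∈ L ⊔ CQ K
      rw [mem_sup_iff_map, hwx]
      have hx' : QuotientGroup.mk' (CQ K) x ∈ L.map (QuotientGroup.mk' (CQ K)) := ⟨x, hPL hx, rfl⟩
      have hy' : QuotientGroup.mk' (CQ K) (w⁻¹ * x * w) ∈ L.map (QuotientGroup.mk' (CQ K)) := by
        rw [map_mul, map_mul, map_inv, ← hq, ← map_inv, ← map_mul, ← map_mul]
        have := hLΓN γ⁻¹ (Γ.inv_mem hγ) x (hPL hx)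
        rw [inv_inv] at this
        exact ⟨_, this, rfl⟩
      rw [map_mul, map_mul]
      exact Subgroup.mul_mem _ (Subgroup.mul_mem _ hx' hy') hx'
  -- intersections with `CQ`
  have hΓC : Γ ⊓ CQ K ≤ IQ K := by
    obtain ⟨g, hg, hgx⟩ := hPar.syl (Γ ⊓ CQ K) inf_le_left
      ((CQ_pgroup (K := K) hG h).to_le inf_le_right)
    intro x hx
    have hx' : g⁻¹ * x * g ∈ Γ ⊓ CQ K := by
      refine ⟨Γ.mul_mem (Γ.mul_mem (Γ.inv_mem hg) hx.1) hg, ?_⟩
      have := hCN.conj_mem x hx.2 g⁻¹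
      rwa [inv_inv] at this
    have h1 := hgx _ hx'
    have h2 : g * (g⁻¹ * x * g) * g⁻¹ = x := by group
    rw [h2] at h1
    exact Lam_inf_le ⟨P_le_Lam h1, hx.2⟩
  have hLC : L ⊓ CQ K = IQ K :=
    le_antisymm (fun x hx => hΓC ⟨hLΓ hx.1, hx.2⟩) (le_inf (IQ_le_P.trans hPL) IQ_le_CQ)
  have hLamC : Lam1 K ⊓ CQ K = IQ K :=
    le_antisymm Lam_inf_le (le_inf (IQ_le_P.trans P_le_Lam) IQ_le_CQ)
  have hLL : L = Lam1 K := by
    refine hLift (p := p) (CQ K) L (Lam1 K) P (RD D) hCN (fun x hx y hy => CQ_comm h hx hy) (CQ_pgroup hG h) hsup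
      (hLC.trans hLamC.symm) hPL P_le_Lam (hLC.le.trans IQ_le_P) (not_dvd_of_syl hPp hPar.syl hPL hLΓ) ?_ ?_ ?_ ?_
      (RD_coprime h.pp hPar.D_cop) ?_
    · rw [hLC]
      exact le_normalizer_of_conj fun x _ y hy => (IQ_normal (K := K)).conj_mem y hy x
    · rw [hLC]
      exact le_normalizer_of_conj fun x _ y hy => (IQ_normal (K := K)).conj_mem y hy x
    · exact le_normalizer_of_conj fun x hx y hy => hLΓN x (hRΓ hx) y hy
    · exact le_normalizer_of_conj fun x hx y hy => hRLam x hx y hy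
    · intro c hc hcc
      exact fix_trivial hG h hTor hc hcc
  intro γ
  constructor
  · intro hγ
    obtain ⟨l, hl, d, hd, δ, hδ, hh⟩ := hA2 γ hγ
    have hc := agree _ _ hh
    have hδΓ : δ ∈ Γ := hRΓ ⟨d, hd, hδ⟩
    have hlΓ : l ∈ Γ := hLΓ (hLL ▸ hl)
    have h1 : γ * (l * δ)⁻¹ ∈ IQ K := hΓC ⟨Γ.mul_mem hγ (Γ.inv_mem (Γ.mul_mem hlΓ hδΓ)), hc⟩
    refine ⟨γ * (l * δ)⁻¹ * l, (Lam1 K).mul_mem (P_le_Lam (IQ_le_P h1)) hl, d, hd, δ, hδ, by group⟩
  · rintro ⟨l, hl, d, hd, δ, hδ, rfl⟩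
    exact Γ.mul_mem (hLΓ (hLL ▸ hl)) (hRΓ ⟨d, hd, hδ⟩)

end Cfsg.Agent.H541.PU
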